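import Cfsg.Agent.Lib.ToddCox.HeX.Data0
set_option autoImplicit false
set_option maxRecDepth 100000
namespace Cfsg.Agent.Lib.ToddCox.HeX
def eT (j : ℕ) : ℕ := E_0
noncomputable def chunkF (h : ℕ) : ℕ := Nat.rec (motive := fun _ => ℕ) (eT 0) (fun n _ => eT (Nat.succ n)) h
noncomputable def Eo (r : ℕ) : ℕ := Nat.land (Nat.shiftRight (chunkF (Nat.shiftRight r 8)) (Nat.mul (Nat.land r 255) 54)) 18014398509481983
def invT : ℕ := 0xffef7cefae78df6d74cf2c70beeb6caeaa689e69648e28607de75c6da6585d65544d24503ce34c2c92872061440c2040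
def inv (y : ℕ) : ℕ := invOf invT y
def Wt_1_3 (j : ℕ) : List ℕ := bif Nat.blt j 2 then [nat_lit 3, nat_lit 5, nat_lit 6] else [nat_lit 5, nat_lit 3, nat_lit 6]
def Wt_0_3 (j : ℕ) : List ℕ := bif Nat.blt j 1 then [nat_lit 6, nat_lit 3, nat_lit 5] else (Wt_1_3 j)
def Wt_3_5 (j : ℕ) : List ℕ := bif Nat.blt j 4 then [nat_lit 63, nat_lit 6, nat_lit 3, nat_lit 6, nat_lit 3, nat_lit 6, nat_lit 3] else [nat_lit 63, nat_lit 3, nat_lit 63, nat_lit 3]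
def Wt_5_7 (j : ℕ) : List ℕ := bif Nat.blt j 6 then [nat_lit 5, nat_lit 5, nat_lit 63] else [nat_lit 6, nat_lit 6, nat_lit 63]
def Wt_3_7 (j : ℕ) : List ℕ := bif Nat.blt j 5 then (Wt_3_5 j) else (Wt_5_7 j)
def Wt_0_7 (j : ℕ) : List ℕ := bif Nat.blt j 3 then (Wt_0_3 j) else (Wt_3_7 j)
def Wt_7_9 (j : ℕ) : List ℕ := bif Nat.blt j 8 then [nat_lit 63, nat_lit 5, nat_lit 6, nat_lit 5, nat_lit 6, nat_lit 4] else [nat_lit 4, nat_lit 4, nat_lit 63]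
def Wt_9_11 (j : ℕ) : List ℕ := bif Nat.blt j 10 then [nat_lit 4, nat_lit 5, nat_lit 6, nat_lit 5, nat_lit 6] else [nat_lit 63, nat_lit 4, nat_lit 3, nat_lit 4, nat_lit 3, nat_lit 4, nat_lit 3]
def Wt_7_11 (j : ℕ) : List ℕ := bif Nat.blt j 9 then (Wt_7_9 j) else (Wt_9_11 j)
def Wt_11_13 (j : ℕ) : List ℕ := bif Nat.blt j 12 then [nat_lit 3, nat_lit 3, nat_lit 63] else [nat_lit 6, nat_lit 0, nat_lit 6, nat_lit 0]
def Wt_13_15 (j : ℕ) : List ℕ := bif Nat.blt j 14 then [nat_lit 6, nat_lit 1, nat_lit 6, nat_lit 1] else [nat_lit 6, nat_lit 2, nat_lit 6, nat_lit 2]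
def Wt_11_15 (j : ℕ) : List ℕ := bif Nat.blt j 13 then (Wt_11_13 j) else (Wt_13_15 j)
def Wt_7_15 (j : ℕ) : List ℕ := bif Nat.blt j 11 then (Wt_7_11 j) else (Wt_11_15 j)
def Wt_0_15 (j : ℕ) : List ℕ := bif Nat.blt j 7 then (Wt_0_7 j) else (Wt_7_15 j)
def Wt_16_18 (j : ℕ) : List ℕ := bif Nat.blt j 17 then [nat_lit 3, nat_lit 1, nat_lit 3, nat_lit 1] else [nat_lit 5, nat_lit 6, nat_lit 3]
def Wt_15_18 (j : ℕ) : List ℕ := bif Nat.blt j 16 then [nat_lit 3, nat_lit 0, nat_lit 3, nat_lit 0] else (Wt_16_18 j)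
def Wt_18_20 (j : ℕ) : List ℕ := bif Nat.blt j 19 then [nat_lit 5, nat_lit 2, nat_lit 5, nat_lit 2] else [nat_lit 63, nat_lit 0, nat_lit 2, nat_lit 3, nat_lit 2, nat_lit 3, nat_lit 2, nat_lit 3, nat_lit 2, nat_lit 3, nat_lit 2, nat_lit 3]
def Wt_20_22 (j : ℕ) : List ℕ := bif Nat.blt j 21 then [nat_lit 2, nat_lit 2, nat_lit 63] else [nat_lit 4, nat_lit 1, nat_lit 4, nat_lit 1]
def Wt_18_22 (j : ℕ) : List ℕ := bif Nat.blt j 20 then (Wt_18_20 j) else (Wt_20_22 j)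
def Wt_15_22 (j : ℕ) : List ℕ := bif Nat.blt j 18 then (Wt_15_18 j) else (Wt_18_22 j)
def Wt_22_24 (j : ℕ) : List ℕ := bif Nat.blt j 23 then [nat_lit 63, nat_lit 2, nat_lit 1, nat_lit 0, nat_lit 2, nat_lit 1, nat_lit 0, nat_lit 2, nat_lit 1, nat_lit 0, nat_lit 4] else [nat_lit 63, nat_lit 0, nat_lit 63, nat_lit 0]
def Wt_24_26 (j : ℕ) : List ℕ := bif Nat.blt j 25 then [nat_lit 1, nat_lit 1, nat_lit 63] else [nat_lit 2, nat_lit 1, nat_lit 2, nat_lit 1, nat_lit 2, nat_lit 1]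
def Wt_22_26 (j : ℕ) : List ℕ := bif Nat.blt j 24 then (Wt_22_24 j) else (Wt_24_26 j)
def Wt_26_28 (j : ℕ) : List ℕ := bif Nat.blt j 27 then [nat_lit 0, nat_lit 2, nat_lit 3, nat_lit 2, nat_lit 3, nat_lit 2, nat_lit 3, nat_lit 2, nat_lit 3, nat_lit 2, nat_lit 3] else [nat_lit 63, nat_lit 2, nat_lit 0, nat_lit 1, nat_lit 2, nat_lit 0, nat_lit 1, nat_lit 2, nat_lit 4, nat_lit 0, nat_lit 1]
def Wt_28_30 (j : ℕ) : List ℕ := bif Nat.blt j 29 then [nat_lit 63, nat_lit 0, nat_lit 63, nat_lit 0, nat_lit 63] else [nat_lit 0, nat_lit 0, nat_lit 63]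
def Wt_26_30 (j : ℕ) : List ℕ := bif Nat.blt j 28 then (Wt_26_28 j) else (Wt_28_30 j)
def Wt_22_30 (j : ℕ) : List ℕ := bif Nat.blt j 26 then (Wt_22_26 j) else (Wt_26_30 j)
def Wt_15_30 (j : ℕ) : List ℕ := bif Nat.blt j 22 then (Wt_15_22 j) else (Wt_22_30 j)
def Wt_0_30 (j : ℕ) : List ℕ := bif Nat.blt j 15 then (Wt_0_15 j) else (Wt_15_30 j)
def Wt (j : ℕ) : List ℕ := (Wt_0_30 j)
def W (j : ℕ) : List ℕ := bif Nat.blt j 30 then Wt j else []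
theorem W_ge (j : ℕ) (h : 30 ≤ j) : W j = [] := by
  unfold W
  rw [blt_false_of_le h]
  rfl
def Hl : List ℕ := []
def isH (y : ℕ) : Bool := List.elem y Hl
def Rb : List (List ℕ) := [[nat_lit 0, nat_lit 0],
  [nat_lit 1, nat_lit 0, nat_lit 1, nat_lit 0, nat_lit 1, nat_lit 0, nat_lit 1, nat_lit 0],
  [nat_lit 2, nat_lit 0, nat_lit 2, nat_lit 0],
  [nat_lit 3, nat_lit 0, nat_lit 3, nat_lit 0],
  [nat_lit 4, nat_lit 0, nat_lit 4, nat_lit 0],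
  [nat_lit 5, nat_lit 0, nat_lit 5, nat_lit 0],
  [nat_lit 6, nat_lit 0, nat_lit 6, nat_lit 0],
  [nat_lit 1, nat_lit 1],
  [nat_lit 2, nat_lit 1, nat_lit 2, nat_lit 1, nat_lit 2, nat_lit 1],
  [nat_lit 3, nat_lit 1, nat_lit 3, nat_lit 1],
  [nat_lit 4, nat_lit 1, nat_lit 4, nat_lit 1],
  [nat_lit 5, nat_lit 1, nat_lit 5, nat_lit 1],
  [nat_lit 6, nat_lit 1, nat_lit 6, nat_lit 1],
  [nat_lit 2, nat_lit 2],
  [nat_lit 3, nat_lit 2, nat_lit 3, nat_lit 2, nat_lit 3, nat_lit 2, nat_lit 3, nat_lit 2, nat_lit 3, nat_lit 2, nat_lit 3, nat_lit 2, nat_lit 3, nat_lit 2, nat_lit 3, nat_lit 2, nat_lit 3, nat_lit 2, nat_lit 3, nat_lit 2],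
  [nat_lit 4, nat_lit 2, nat_lit 4, nat_lit 2],
  [nat_lit 5, nat_lit 2, nat_lit 5, nat_lit 2],
  [nat_lit 6, nat_lit 2, nat_lit 6, nat_lit 2],
  [nat_lit 3, nat_lit 3],
  [nat_lit 4, nat_lit 3, nat_lit 4, nat_lit 3, nat_lit 4, nat_lit 3],
  [nat_lit 5, nat_lit 3, nat_lit 5, nat_lit 3, nat_lit 5, nat_lit 3],
  [nat_lit 6, nat_lit 3, nat_lit 6, nat_lit 3, nat_lit 6, nat_lit 3],
  [nat_lit 4, nat_lit 4],
  [nat_lit 5, nat_lit 4, nat_lit 5, nat_lit 4],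
  [nat_lit 6, nat_lit 4, nat_lit 6, nat_lit 4],
  [nat_lit 5, nat_lit 5],
  [nat_lit 6, nat_lit 5, nat_lit 6, nat_lit 5, nat_lit 6, nat_lit 5, nat_lit 6, nat_lit 5],
  [nat_lit 6, nat_lit 6],
  [nat_lit 5, nat_lit 6, nat_lit 5, nat_lit 6, nat_lit 4],
  [nat_lit 0, nat_lit 1, nat_lit 2, nat_lit 0, nat_lit 1, nat_lit 2, nat_lit 0, nat_lit 1, nat_lit 2, nat_lit 4],
  [nat_lit 2, nat_lit 3, nat_lit 2, nat_lit 3, nat_lit 2, nat_lit 3, nat_lit 2, nat_lit 3, nat_lit 2, nat_lit 3, nat_lit 0],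
  [nat_lit 6, nat_lit 5, nat_lit 3, nat_lit 2, nat_lit 6, nat_lit 5, nat_lit 3, nat_lit 2, nat_lit 6, nat_lit 5, nat_lit 3, nat_lit 2, nat_lit 6, nat_lit 5, nat_lit 3, nat_lit 2],
  [nat_lit 3, nat_lit 5, nat_lit 6],
  []]
def spT (j : ℕ) : ℕ := nat_lit 0x403a0000003c000020100000000e000000000000203b000020140000001a0001403c0000202000004040000020120000200600002022000020180000200c0000002400000026000000380000002c000000380000003600000032000000240000002a000040410000204000000040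
def sp (j : ℕ) : ℕ := Nat.land (Nat.shiftRight (spT (Nat.shiftRight j 6)) (Nat.mul (Nat.land j 63) 32)) 4294967295
theorem Eo_lt (r : ℕ) : Eo r < 18014398509481984 := land54_lt _
def cT (j : ℕ) : ℕ := nat_lit 0x0
noncomputable def cChunk (h : ℕ) : ℕ := Nat.rec (motive := fun _ => ℕ) (cT 0) (fun n _ => cT (Nat.succ n)) h
noncomputable def cF (i : ℕ) : ℕ := Nat.land (Nat.shiftRight (cChunk (Nat.shiftRight i 7)) (Nat.mul (Nat.land i 127) 24)) 16777215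
theorem cF_lt (i : ℕ) : cF i < 16777216 := land24_lt _
theorem cF_zero : cF 0 = 0 := by decide +kernel
def nDef : ℕ := 10
def nEv : ℕ := 52
def nW : ℕ := 30
def N : ℕ := 1
def ys : List ℕ := [nat_lit 0, nat_lit 1, nat_lit 2, nat_lit 3, nat_lit 4, nat_lit 5, nat_lit 6]
def xw : List ℕ := [nat_lit 3, nat_lit 5, nat_lit 6]
end Cfsg.Agent.Lib.ToddCox.HeX
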