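import Cfsg.Agent.Lib.ToddCox.Glue
set_option autoImplicit false
set_option maxRecDepth 100000
namespace Cfsg.Agent.Lib.ToddCox.HeX
def E_0 : ℕ := 0x80000000000002000000000000000000000000000000000000001fc000000000003f000001000001fc000020000023f000001000008000000200000200000008000008080000200000202000008000000040000000000001000000000002fc000000000003f000002000001fc000024000027f00000100000908000008000008200000900000afc000024000027f00000a00000a0c000028000028300000a00000a18000028000028600000a00000a14000028000028500000a0000081000002000002040000080000080c0000200000203000008000001080000000000002000001000003fc000004000007f0000030000030c00000c00000c30000030000031400000c00000c50000030000011000000400000440000010000011400000400000450000010000021400000800000850000020000020c00000800000830000020000010c00000400000430000010000031800000c00000c60000030000021800000800000860000020000011800000400000460000010000001800000000000060000000000000c0000000000003000000000000fc000010000013f000000000004100000100000104000004000000100000000000004000000000005fc000000000003f000005000000180000100000106000000000000140000000000005000000000004140000100000105000004000006fc000000000003f000006000004fc00001c00001ff0000040000071400001000001050000070000070c00001800001830000070000061800001000001060000060000020800002800002820000020000020000002400002400000020000010400002000002010000010000001800001c00001c60000000000001400001800001850000000000001000001400001440000000000000c00001000001030000000000000800000c00000c2000000000000040000080000081000000000000000000040000040000000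
end Cfsg.Agent.Lib.ToddCox.HeX
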