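import Cfsg.Agent.Lib.ToddCox.HeX.Data
set_option autoImplicit false
set_option maxRecDepth 100000
namespace Cfsg.Agent.Lib.ToddCox.HeX
theorem wordsGood : allBelow (wordsOK W (relR Rb inv) inv sp) nW 5 = true := by decide +kernel
theorem d0 : allBits (fun k => bif Nat.blt k 10 then chkDef Eo inv k else true) 13 0 = true := by decide +kernel
def L0 : List ℕ := [nat_lit 0x288000048000072000013000028800004800007200001300002880000480000220000130000278000130000002000012000019000004c00001c00001200001d000004c00002400000e00001f000003c00002a00000e00001b000003c000020000044000002000005000008600000400001680000140000860000040000168000014000086000004000000800004c00006a000041000000800001000004200000500000900000c400007a00003100001e800002400006e00003000000880000e400006400001100000100000b400000600001000000000000b400000200000f00000200000bc00000a00000e00000100000bc00000600000d00000000000bc00000200000c000015800008800000c00002b000003000002c00000e000029000003000009c00000e000029000005000008800004000002300000f0000024000048000008000004000002000004600001f000011000008000000e00001c00000a800001800003800000a000002800006c00003200000500000b000006800000c000004000003000003400002e000015000003000003400000600000c000003800000800001800000b000000800002800000e000000]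
theorem s0 : chkChunks Eo inv W isH 32 L0 10 = true := by decide +kernel
theorem c0 : Covered Eo inv W isH 10 42 := covered_of_chunks 32 L0 10 42 rfl s0
theorem s1 : chkStream Eo inv W isH 10 42 0x31000011c00002800006200000000000740000c200005f000030000000000003800000f00002f800012c0000ba00000e000000000011800001e00005f00002e800006c00009200005d000024800017400009200005d000024800017400009200005d00000d000003800008e00005b000023000003c0000320000580000010000060000022000056000000000005c00007e0000000000018000150000020000002000023000000000000600005400000b0000148000024000014 = true := by decide +kernel
theorem c1 : Covered Eo inv W isH 42 52 := covered_of_stream 10 42 _ s1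
theorem l0 : chkPoints Eo cF (2 * nEv) N ys 1 0 0x5e000000000010800000000004e00000000001680000000000ce00000000002d80000000000ca000000 = true := by decide +kernel
theorem k0 : LinksOK Eo cF (2 * nEv) N ys 0 1 := linksOK_of_points 1 0 _ l0
end Cfsg.Agent.Lib.ToddCox.HeX
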